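import Cfsg.Agent.H666.Clif.Cover
import Cfsg.Agent.S0886
import Cfsg.Agent.Blocks.CliffordCentral
import Cfsg.Agent.Blocks.PrincipalSection

/-!
# S4879: extensions in the principal block (helper855)

* `lift` : `T` normal in `G`, `G / T` cyclic, `θ` an invariant member of the principal block of `T`: `θ` is the restriction of
  a member of the principal block of `G`;
* `lift'` : the same with `MulAut.conjNormal`.
-/

set_option autoImplicit false

open Cfsg

namespace Cfsg.Agent.H855.LB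

open Cfsg.Agent.Blocks Cfsg.Agent.Blocks.Basic Cfsg.Agent.H666.Clif

universe u

variable {G : Type u} [Group G] [Finite G] {p : ℕ} {M : Ideal AlgInt}

/-- two irreducible characters over the same character of a normal subgroup with cyclic quotient have the same
restriction -/
theorem restrict_eq (T : Subgroup G) [T.Normal] (hcyc : IsCyclic (G ⧸ T)) {χ ψ : IrrCharacter G} {ε : IrrCharacter T}
    (h1 : Ov T χ ε) (h2 : Ov T ψ ε) (t : T) : (ψ : G → ℂ) t = (χ : G → ℂ) t := by
  obtain ⟨l, hl, rfl⟩ := exists_tl T hcyc h1 h2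
  rw [tl_apply, hl t t.2, Units.val_one, one_mul]

/-- a character whose restriction is `θ` lies over `θ` -/
theorem ov_of_restrict (T : Subgroup G) {χ : IrrCharacter G} {θ : IrrCharacter T}
    (h : ∀ t : T, (χ : G → ℂ) t = (θ : T → ℂ) t) : Ov T χ θ := by
  classical
  have := Fintype.ofFinite G
  have := Fintype.ofFinite T
  rw [ov_iff]
  have e : (fun n : T => (χ : G → ℂ) n) = (θ : T → ℂ) := funext h
  rw [e, CliffordCentral.classInner_self]
  exact one_ne_zero

/-- **Extension in the principal block.** -/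
theorem lift (hM : IsPModular p M) (T : Subgroup G) [hT : T.Normal] (hcyc : IsCyclic (G ⧸ T)) (θ : IrrCharacter T)
    (h0 : θ ∈ principalBlock M T)
    (hinv : ∀ (g : G) (t : T), (θ : T → ℂ) ⟨g * t * g⁻¹, hT.conj_mem (t : G) t.2 g⟩ = (θ : T → ℂ) t) :
    ∃ χ : IrrCharacter G, χ ∈ principalBlock M G ∧ ∀ t : T, (χ : G → ℂ) t = (θ : T → ℂ) t := by
  classical
  have hMp : M.IsPrime := hM.2.1.isPrime
  obtain ⟨ψ, hψ, hψ2⟩ := Cfsg.Agent.S0886.result T hcyc (θ : T → ℂ) θ.2 hinv
  have h1 : (⟨fun _ => 1, isIrrCharacter_one⟩ : IrrCharacter G) ∈ principalBlock M G :=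
    PrincipalSection.one_mem_principalBlock
  have h2 : Ov T (⟨fun _ => 1, isIrrCharacter_one⟩ : IrrCharacter G) (⟨fun _ => 1, isIrrCharacter_one⟩ : IrrCharacter T) :=
    ov_of_restrict T fun _ => rfl
  obtain ⟨χ, h3, h4⟩ := cover hM T hcyc (B := principalBlock M G) ⟨⟨fun _ => 1, isIrrCharacter_one⟩, rfl⟩ h1 h2
    (ε' := θ) h0
  refine ⟨χ, h3, fun t => ?_⟩
  rw [restrict_eq T hcyc (ov_of_restrict T (χ := ⟨ψ, hψ⟩) hψ2) h4 t]
  exact hψ2 t

/-- **Extension in the principal block**, with `MulAut.conjNormal`. -/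
theorem lift' (hM : IsPModular p M) (T : Subgroup G) [T.Normal] (hcyc : IsCyclic (G ⧸ T)) (θ : IrrCharacter T)
    (h0 : θ ∈ principalBlock M T)
    (hinv : ∀ (g : G) (t : T), (θ : T → ℂ) (MulAut.conjNormal g t) = (θ : T → ℂ) t) :
    ∃ χ : IrrCharacter G, χ ∈ principalBlock M G ∧ ∀ t : T, (χ : G → ℂ) t = (θ : T → ℂ) t :=
  lift hM T hcyc θ h0 fun g t => by
    rw [← hinv g t]
    congr 1

end Cfsg.Agent.H855.LB
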