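import Cfsg.Agent.H116.CY.ExcA
import Cfsg.Agent.Blocks.CyclicUpper

/-!
# S4879, piece F5: an extension of the Steinberg character in the principal block (helper855)

* `mem_of_int` : an integer valued irreducible character of degree prime to `p`, congruent to its degree on the elements
  which centralize a Sylow `p`-subgroup, is in the principal block;
* `exists_st_over` : `S` with a root group datum, `p` divides the index of every maximal parabolic subgroup, `f : S →* G`
  with all `p`-elements of `G` in the range, `G` acts on `S`: the Steinberg character of `S` extends to an integer valued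
  member of the principal block of `G`;
* `exists_st_F4` : the same for `T ≃* F₄(K)` normal in `G`, `p ∣ Φ_m(q)`, `m ∈ {2, 3, 4, 6, 8, 12}`;
* `st_F4_seven` : `p = 7`, `q` of order `3` or `6` modulo `7`.
-/

set_option autoImplicit false
set_option linter.unusedSectionVars false

namespace Cfsg.Agent.H855.LB

open Cfsg CoxeterSystem Cfsg.Agent.ChevalleyStructure.CoxeterGeom Cfsg.Agent.Tits.Roots Cfsg.Agent.Tits.Core
  Cfsg.Agent.Tits.Exchange Cfsg.Agent.Nodes.Reps Cfsg.Agent.Nodes.BNOf Cfsg.Agent.Nodes.StabComb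
  Cfsg.Agent.Nodes.Bruhat Cfsg.Agent.Nodes.OppDec Cfsg.Agent.Nodes.LeviDec Cfsg.Agent.Nodes.NormalForm
  Cfsg.Agent.KFacts.RgdOpp Cfsg.Agent.KFacts.RgdAut Cfsg.Agent.KFacts.RgdDiag Cfsg.Agent.H554.RG
  Cfsg.Agent.H116.RatB0 Cfsg.Agent.H116.TraceOrb Cfsg.Agent.H167.AltTrace Cfsg.Agent.H167.AltBldg
  Cfsg.Agent.H116.StAut Cfsg.Agent.H116.CY

universe u v

section mem

open Cfsg.Agent.Blocks.Local Cfsg.Agent.Blocks.Basic

variable {G : Type u} [Group G] [Finite G] {p : ℕ} [hp : Fact p.Prime] {M : Ideal AlgInt}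

/-- **An integer valued character in the principal block.** -/
theorem mem_of_int (hM : IsPModular p M) (χ : IrrCharacter G) (th : G → ℤ) (hχ : ∀ g, (χ : G → ℂ) g = th g)
    (hdeg : ¬ p ∣ charDegree (χ : G → ℂ))
    (h : ∀ (g : G) (P : Sylow p G), (∀ x ∈ P, x * g = g * x) → th g ≡ th 1 [ZMOD p]) : χ ∈ principalBlock M G := by
  have hMp : M.IsPrime := hM.2.1.isPrime
  change SameBlock M (fun _ => 1) (χ : G → ℂ)
  intro g
  have hone : (χ : G → ℂ) 1 = (charDegree (χ : G → ℂ) : ℂ) := Blocks.Knorr.charDegree_eq χ.2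
  have hne : (charDegree (χ : G → ℂ) : ℂ) ≠ 0 := by
    intro h0
    apply hdeg
    have h1 : charDegree (χ : G → ℂ) = 0 := by exact_mod_cast h0
    rw [h1]
    exact dvd_zero p
  by_cases hg : p ∣ (Subgroup.centralizer ({g} : Set G)).index
  · have h3 : MemLocalIdeal M (((Subgroup.centralizer ({g} : Set G)).index : ℕ) : ℂ) :=
      (memLocalIdeal_natCast_iff hM _).2 hg
    have h4 : centralChar (fun _ : G => (1 : ℂ)) g - centralChar (χ : G → ℂ) g =
        (((Subgroup.centralizer ({g} : Set G)).index : ℕ) : ℂ) *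
          (1 - (χ : G → ℂ) g * ((charDegree (χ : G → ℂ) : ℂ))⁻¹) := by
      rw [centralChar, centralChar, hone]
      ring
    rw [h4]
    refine memLocalIdeal_mul_right h3 (memLocalRing_sub memLocalRing_one ?_)
    exact memLocalRing_mul (memLocalRing_of_isIntegral (Blocks.Central.isIntegral_irr χ.2 g))
      (memLocalRing_inv_natCast hM hdeg)
  · obtain ⟨Q⟩ : Nonempty (Sylow p (Subgroup.centralizer ({g} : Set G))) := inferInstance
    have h1 : IsPGroup p ((Q : Subgroup (Subgroup.centralizer ({g} : Set G))).map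
        (Subgroup.centralizer ({g} : Set G)).subtype) := Q.2.map _
    have h2 : ¬ p ∣ ((Q : Subgroup (Subgroup.centralizer ({g} : Set G))).map
        (Subgroup.centralizer ({g} : Set G)).subtype).index := by
      rw [Subgroup.index_map_subtype, hp.out.dvd_mul]
      exact not_or.2 ⟨Q.not_dvd_index, hg⟩
    have h3 := h g (h1.toSylow h2) (by
      rintro x ⟨y, -, rfl⟩
      exact Subgroup.mem_centralizer_singleton_iff.1 y.2)
    obtain ⟨k, hk⟩ := (Int.modEq_iff_dvd.1 h3)
    have h4 : centralChar (fun _ : G => (1 : ℂ)) g - centralChar (χ : G → ℂ) g =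
        ((p : ℕ) : ℂ) * (((k * (Subgroup.centralizer ({g} : Set G)).index : ℤ) : ℂ) *
          ((charDegree (χ : G → ℂ) : ℂ))⁻¹) := by
      have h5 : (χ : G → ℂ) 1 - (χ : G → ℂ) g = (p : ℂ) * (k : ℂ) := by
        rw [hχ, hχ]
        exact_mod_cast hk
      have h6 : (χ : G → ℂ) g = (charDegree (χ : G → ℂ) : ℂ) - (p : ℂ) * (k : ℂ) := by
        rw [← hone, ← h5]
        ring
      rw [centralChar, centralChar, hone, h6]
      push_cast
      field_simp
      ring
    rw [h4]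
    refine memLocalIdeal_mul_right ((memLocalIdeal_natCast_iff hM _).2 (dvd_refl p)) ?_
    refine memLocalRing_mul (memLocalRing_of_isIntegral ?_) (memLocalRing_inv_natCast hM hdeg)
    exact isIntegral_algebraMap (R := ℤ) (A := ℂ) (x := k * (Subgroup.centralizer ({g} : Set G)).index)

end mem

section ovr

variable {I W S : Type*} [Fintype I] [DecidableEq I] [Group W] [Group S] {M : CoxeterMatrix I}
  {cs : CoxeterSystem M W} {A : I → I → ℤ} {h : IsCartan M A} {r : ℕ} {T : Subgroup S} {n : I → S}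
  {X : (I → ℤ) → Subgroup S} (R : RGD cs h r T n X)

include R in
/-- **The Steinberg character of `S`, extended to a group `G` which acts on `S`, in the principal block of `G`.** -/
theorem exists_st_over [Finite W] [Finite S] [hr : Fact r.Prime] (hG : GG cs h T X = ⊤) {p : ℕ}
    [hp : Fact p.Prime] (hpr : p ≠ r) (hJ : ∀ k : I, p ∣ (PJ cs h T X {j | j ≠ k}).index)
    {G : Type u} [Group G] [Finite G] {M' : Ideal AlgInt} (hM : IsPModular p M') (f : S →* G)
    (hf : Function.Injective f) (hfp : ∀ x : G, (∃ k : ℕ, orderOf x = p ^ k) → x ∈ f.range) (ψ : G →* MulAut S)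
    (hψ : ∀ (g : G) (s : S), f (ψ g s) = g * f s * g⁻¹) :
    ∃ χ : IrrCharacter G, χ ∈ principalBlock M' G ∧
      charDegree (χ : G → ℂ) = Nat.card (RGD.Sup X (RGD.Pos cs h)) ∧
      IsIrrCharacter S (fun s => (χ : G → ℂ) (f s)) ∧ (∀ g, ∃ z : ℤ, (χ : G → ℂ) g = z) := by
  classical
  obtain ⟨Δ, hiso, htr, hδ⟩ := H167.SteinbergRGD.exists_bldg R (hgen_of_GG R hG)
  have hfi : Fintype (S ⧸ RGD.B cs h T X) := Fintype.ofFinite _
  have hψ' : ∀ s, ψ (f s) = MulAut.conj s := by
    intro s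
    ext t
    apply hf
    rw [hψ, MulAut.conj_apply, map_mul, map_mul, map_inv]
  obtain ⟨th, h1, h2, h3, h4⟩ := exists_ext R hG Δ hiso htr hδ f ψ hψ'
  have hJ' : ∀ J : Finset I, J ≠ Finset.univ → p ∣ (PJ cs h T X (J : Set I)).index := by
    intro J hJ'
    obtain ⟨k, hk⟩ : ∃ k, k ∉ J := by
      by_contra hcon
      push Not at hcon
      exact hJ' (Finset.eq_univ_iff_forall.2 hcon)
    refine (hJ k).trans (Subgroup.index_dvd_of_le (PJ_mono R ?_))
    intro j hj hjk
    subst hjk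
    exact hk hj
  have key : ∀ (Q : Sylow p S) (b : MulAut S), (∀ q ∈ Q, b q = q) →
      ((Equiv.Perm.sign (typHom R hG b) : ℤˣ) : ℤ) * cnt R hG Δ b ≡ (-1) ^ Fintype.card I [ZMOD p] := by
    intro Q b hb
    refine ((cnt_modEq R hG Δ hiso hδ hJ' Q hb).mul_left _).trans ?_
    rw [sign_eq, ← pow_add, add_assoc, pow_add, ← two_mul, pow_mul (-1 : ℤ) 2]
    simp
  have hdeg : charDegree (fun a : G => (th a : ℂ)) = Nat.card (RGD.Sup X (RGD.Pos cs h)) := by
    have h5 : (charDegree (fun a : G => (th a : ℂ)) : ℂ) = (th 1 : ℂ) := (Blocks.Knorr.charDegree_eq h1).symm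
    rw [h3] at h5
    exact_mod_cast h5
  refine ⟨⟨fun a => (th a : ℂ), h1⟩, ?_, hdeg, h2, fun g => ⟨th g, rfl⟩⟩
  refine mem_of_int hM _ th (fun g => rfl) ?_ ?_
  · show ¬ p ∣ charDegree (fun a : G => (th a : ℂ))
    rw [hdeg]
    exact not_dvd_card_U R hG hpr
  · intro g P hP
    -- the Sylow subgroup of `S`
    have hPr : (P : Subgroup G) ≤ f.range := by
      intro x hx
      obtain ⟨k, hk⟩ := IsPGroup.iff_orderOf.1 P.isPGroup' ⟨x, hx⟩
      rw [Subgroup.orderOf_mk] at hk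
      exact hfp x ⟨k, hk⟩
    have hQp : IsPGroup p ((P : Subgroup G).comap f) := P.isPGroup'.comap_of_injective f hf
    have hQi : ¬ p ∣ ((P : Subgroup G).comap f).index := by
      rw [Subgroup.index_comap]
      intro h5
      exact P.not_dvd_index (h5.trans (Subgroup.relIndex_dvd_index_of_le hPr))
    have h6 : ∀ q ∈ (hQp.toSylow hQi), ψ g q = q := by
      intro q hq
      have h7 : f q * g = g * f q := hP (f q) hq
      apply hf
      rw [hψ, ← h7]
      group
    rw [h4 g, h4 1]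
    exact (key _ _ h6).trans (key (hQp.toSylow hQi) (ψ 1) (by simp)).symm

end ovr

section F4

open Cfsg.Agent.Tits.RootComb Cfsg.Agent.H35.Poin Cfsg.Agent.H35.PoinNum Cfsg.Agent.H35.ExcIdx Cfsg.Agent.H134.StrP
  Cfsg.Agent.ChevalleyStructure.CoxeterGeomTypes Cfsg.Lie Cfsg.Agent.Nodes.RGDChev
  Cfsg.Agent.ChevalleyStructure.NPerm

variable {D : ChevalleyDatum} {l : ℕ} {M : CoxeterMatrix (Fin l)} (hp : IsType D l M) (K : Type u) [Field K]
  [Fintype K] {r f : ℕ} (hr : r.Prime) (hf : f ≠ 0) (hK : Fintype.card K = r ^ f) [CharP K r]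

include hr hf hK in
theorem st_of_parOrd [Finite ↥(D.group K)] {g : ℕ} (hg : g ∣ r ^ f - 1)
    (hT : g * Nat.card (D.diagonalSubgroup K) = (r ^ f - 1) ^ D.rank) {dS : List ℕ} {N : ℕ}
    (hdS : ∀ d ∈ dS, 0 < d ∧ d < N) {b : ℕ} (hS : g * Nat.card (D.group K) = r ^ b * pr (r ^ f) dS)
    {p m : ℕ} [hp' : Fact p.Prime] (hpr : p ≠ r) (hpm : (p : ℤ) ∣ E (r ^ f) m) (hm : m < N)
    (hall : ∀ k : Fin l, ∃ (J : List (Fin l)) (dJ : List ℕ), (∀ j, j ∈ J ↔ j ≠ k) ∧
      ((∀ (_ : Finite M.Group), RGD M.toCoxeterSystem hp.isCartan r (TT D K)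
        (fun i => (⟨nn hp K i, nn_mem_group hp i⟩ : ↥(D.group K))) (XX D l K) →
        (∀ i, Nat.card (XX D l K (sr i)) = r ^ f) →
        ParOrd M.toCoxeterSystem hp.isCartan (TT D K) (XX D l K) (r ^ f) l J dJ)) ∧
      (∀ d ∈ dJ, 0 < d ∧ d < N) ∧ (∀ m < N, cnt dJ m ≤ cnt dS m) ∧ cnt dJ m < cnt dS m)
    {G : Type v} [Group G] [Finite G] {M' : Ideal AlgInt} (hM : IsPModular p M') (T : Subgroup G) [T.Normal]
    (hT' : ∀ x : G, (∃ k : ℕ, orderOf x = p ^ k) → x ∈ T) (e : T ≃* ↥(D.group K)) :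
    ∃ χ : IrrCharacter G, χ ∈ principalBlock M' G ∧ charDegree (χ : G → ℂ) = r ^ b ∧
      IsIrrCharacter T (fun t => (χ : G → ℂ) t) ∧ (∀ g, ∃ z : ℤ, (χ : G → ℂ) g = z) := by
  have : Fact r.Prime := ⟨hr⟩
  have hfin := finite_W hp M.toCoxeterSystem
  have hR := rgd (K := K) hp M.toCoxeterSystem r
  have h2 := two_le hr hf
  have hc : ∀ i, Nat.card (XX D l K (sr i)) = r ^ f := fun i => by
    rw [card_XX hp K M.toCoxeterSystem (isRoot_sr _ _ i), Nat.card_eq_fintype_card, hK]
  obtain ⟨χ, h1, h3, h4, h5⟩ := exists_st_over hR (GG_eq_top hp K _) hpr (fun k => by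
    obtain ⟨J, dJ, e1, e2, e3, e4, e5⟩ := hall k
    have h3 : ({j | j ≠ k} : Set (Fin l)) = {j | j ∈ J} := by
      ext j
      exact (e1 j).symm
    rw [h3]
    exact dvd_idx h2 hdS e3 (idx_of_parOrd hp K hr hf hK _ hg hT (fun d hd => (hdS d hd).1) ⟨b, hS⟩ (e2 hfin hR hc))
      e4 hpm hm e5) hM (T.subtype.comp e.symm.toMonoidHom) (T.subtype_injective.comp e.symm.injective) (by
      intro x hx
      exact ⟨e ⟨x, hT' x hx⟩, by simp⟩) ((MulAut.congr e).toMonoidHom.comp MulAut.conjNormal) (by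
      intro g s
      simp [MulAut.congr])
  refine ⟨χ, h1, ?_, ?_, h5⟩
  · rw [h3]
    obtain ⟨Q, hQ⟩ := exists_sylow hR (GG_eq_top hp K M.toCoxeterSystem)
    rw [← hQ, Sylow.card_eq_multiplicity]
    congr 1
    have hg0 : ¬ r ∣ g := not_dvd_of_dvd hr hf hg
    have hp0 : ¬ r ∣ pr (r ^ f) dS := not_dvd_pr hr hf _ fun d hd => (hdS d hd).1
    have hg1 : g ≠ 0 := fun h => hg0 (by rw [h]; exact dvd_zero r)
    have hp1 : pr (r ^ f) dS ≠ 0 := fun h => hp0 (by rw [h]; exact dvd_zero r)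
    have h6 : (g * Nat.card ↥(D.group K)).factorization r = (r ^ b * pr (r ^ f) dS).factorization r := by rw [hS]
    rw [Nat.factorization_mul hg1 Nat.card_pos.ne', Nat.factorization_mul (pow_ne_zero _ hr.ne_zero) hp1,
      Finsupp.add_apply, Finsupp.add_apply, Nat.factorization_eq_zero_of_not_dvd hg0,
      Nat.factorization_eq_zero_of_not_dvd hp0, hr.factorization_pow, Finsupp.single_eq_same] at h6
    omega
  · have h6 := Characters.Core.isIrr_comp e.toMonoidHom e.surjective h4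
    convert h6 using 1
    funext t
    simp

/-- **`F₄(q)`** : the Steinberg character extends to a member of the principal block. -/
theorem exists_st_F4 {K : Type u} [Field K] [Fintype K] {p : ℕ} [Fact p.Prime] (hpK : (p : K) ≠ 0) {m : ℕ}
    (hm : m ∈ [2, 3, 4, 6, 8, 12]) (hd : (p : ℤ) ∣ E (Fintype.card K) m) {G : Type v} [Group G] [Finite G]
    {M' : Ideal AlgInt} (hM : IsPModular p M') (T : Subgroup G) [T.Normal]
    (hT : ∀ x : G, (∃ k : ℕ, orderOf x = p ^ k) → x ∈ T) (e : T ≃* ↥(chevF4.group K)) :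
    ∃ χ : IrrCharacter G, χ ∈ principalBlock M' G ∧ charDegree (χ : G → ℂ) = Fintype.card K ^ 24 ∧
      IsIrrCharacter T (fun t => (χ : G → ℂ) t) ∧ (∀ g, ∃ z : ℤ, (χ : G → ℂ) g = z) := by
  classical
  obtain ⟨r, f, _, hr, hf, hK⟩ := exists_pow K
  rw [hK] at hd
  have h2 := two_le hr hf
  rw [hK, ← pow_mul]
  have hfin : Finite ↥(chevF4.group K) := Finite.of_equiv _ e.toEquiv
  refine st_of_parOrd hpF4 K hr hf hK (g := 1) (one_dvd _)
    (by rw [← hK]; exact Cfsg.Agent.S1035.result rfl (chevF4, 1) (by simp))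
    (dS := [2, 6, 8, 12]) (N := 31) (by decide) (b := f * 24) ?_ (ne_of_cast K hpK) hd ?_ ?_ hM T hT e
  · have h3 := Cfsg.Agent.S1062.result hK
    rw [pow_mul]
    simp only [pr_cons, pr_nil]
    rw [one_mul, h3]
    ring
  · clear hd; revert m; decide
  · intro k
    fin_cases k
    · exact ⟨_, _, by decide, fun _ R hs => oF4_123 R h2 hs, by decide, by decide, by clear hd; revert m; decide⟩
    · exact ⟨_, _, by decide, fun _ R hs => oF4_023 R h2 hs, by decide, by decide, by clear hd; revert m; decide⟩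
    · exact ⟨_, _, by decide, fun _ R hs => oF4_013 R h2 hs, by decide, by decide, by clear hd; revert m; decide⟩
    · exact ⟨_, _, by decide, fun _ R hs => oF4_012 R h2 hs, by decide, by decide, by clear hd; revert m; decide⟩

/-- **`F₄(q)`, `p = 7`.** -/
theorem st_F4_seven {K : Type u} [Field K] [Fintype K] [Fact (Nat.Prime 7)]
    (ho : orderOf ((Fintype.card K : ℕ) : ZMod 7) = 3 ∨ orderOf ((Fintype.card K : ℕ) : ZMod 7) = 6)
    {G : Type v} [Group G] [Finite G] {M' : Ideal AlgInt} (hM : IsPModular 7 M') (T : Subgroup G) [T.Normal]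
    (hT : ∀ x : G, (∃ k : ℕ, orderOf x = 7 ^ k) → x ∈ T) (e : T ≃* ↥(chevF4.group K)) :
    ∃ χ : IrrCharacter G, χ ∈ principalBlock M' G ∧ charDegree (χ : G → ℂ) = Fintype.card K ^ 24 ∧
      IsIrrCharacter T (fun t => (χ : G → ℂ) t) ∧ (∀ g, ∃ z : ℤ, (χ : G → ℂ) g = z) := by
  have hd : ¬ 7 ∣ Fintype.card K := by
    intro h
    rw [(ZMod.natCast_eq_zero_iff _ _).2 h, orderOf_zero] at ho
    omega
  have h7 : ((7 : ℕ) : K) ≠ 0 := by
    intro h0
    apply hd
    obtain ⟨r, hr⟩ := CharP.exists K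
    obtain ⟨n, hr', hn⟩ := FiniteField.card K r
    rw [CharP.cast_eq_zero_iff K r] at h0
    have h1 : r = 7 := (Nat.prime_dvd_prime_iff_eq hr' (Fact.out : Nat.Prime 7)).1 h0
    rw [hn, h1]
    exact dvd_pow_self 7 n.ne_zero
  have hE := dvd_E hd
  rcases ho with ho | ho
  · rw [ho] at hE
    exact exists_st_F4 h7 (m := 3) (by simp) hE hM T hT e
  · rw [ho] at hE
    exact exists_st_F4 h7 (m := 6) (by simp) hE hM T hT e

end F4

end Cfsg.Agent.H855.LB
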